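import Mathlib

/-!
# The fundamental theorem of projective geometry

`Coll F φ`: `φ : V → V` sends non-zero vectors to non-zero vectors and preserves and reflects
collinearity of the points they span; every two vectors miss some vector (dimension at least 3).
`Coll.main`: there are a ring homomorphism `σ` and a `σ`-semilinear additive map `g` with
`g v` a non-zero multiple of `φ v` for all `v ≠ 0`.
-/

set_option autoImplicit false

namespace Cfsg.Agent.Lib.Helper53.FTPG

/-- two vectors are linearly independent -/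
def Ind (F : Type*) [Field F] {V : Type*} [AddCommGroup V] [Module F V] (u v : V) : Prop :=
  ∀ a b : F, a • u + b • v = 0 → a = 0 ∧ b = 0

/-- three vectors are linearly independent -/
def Ind3 (F : Type*) [Field F] {V : Type*} [AddCommGroup V] [Module F V] (u v w : V) : Prop :=
  ∀ a b c : F, a • u + b • v + c • w = 0 → a = 0 ∧ b = 0 ∧ c = 0

/-- the hypotheses on a collineation given on vectors -/
structure Coll (F : Type*) [Field F] {V : Type*} [AddCommGroup V] [Module F V] (φ : V → V) :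
    Prop where
  ne : ∀ v, v ≠ 0 → φ v ≠ 0
  col : ∀ u v w, u ≠ 0 → v ≠ 0 → w ≠ 0 →
    ((∃ a b : F, w = a • u + b • v) ↔ ∃ a b : F, φ w = a • φ u + b • φ v)
  dim : ∀ u v : V, ∃ w : V, ∀ a b : F, w ≠ a • u + b • v

/-- `v'` is a non-zero multiple of `φ v` -/
def Rep (F : Type*) [Field F] {V : Type*} [AddCommGroup V] [Module F V] (φ : V → V) (v v' : V) :
    Prop :=
  ∃ d : F, d ≠ 0 ∧ v' = d • φ v

variable {F : Type*} [Field F] {V : Type*} [AddCommGroup V] [Module F V]

theorem Ind.ne_left {u v : V} (h : Ind F u v) : u ≠ 0 := by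
  intro h0
  have := h 1 0 (by rw [h0]; simp)
  exact one_ne_zero this.1

theorem Ind.ne_right {u v : V} (h : Ind F u v) : v ≠ 0 := by
  intro h0
  have := h 0 1 (by rw [h0]; simp)
  exact one_ne_zero this.2

theorem Ind.symm {u v : V} (h : Ind F u v) : Ind F v u := by
  intro a b hab
  have := h b a (by rw [add_comm]; exact hab)
  exact ⟨this.2, this.1⟩

theorem Ind.add_ne {u v : V} (h : Ind F u v) : u + v ≠ 0 := by
  intro h0
  have := h 1 1 (by rw [one_smul, one_smul]; exact h0)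
  exact one_ne_zero this.1

theorem Ind.not_smul {u v : V} (h : Ind F u v) (c : F) : v ≠ c • u := by
  intro h0
  have := h c (-1) (by rw [h0]; module)
  exact one_ne_zero (neg_eq_zero.1 this.2)

theorem ind_of_not_smul {u v : V} (hu : u ≠ 0) (h : ∀ c : F, v ≠ c • u) : Ind F u v := by
  intro a b hab
  by_cases hb : b = 0
  · subst hb
    rw [zero_smul, add_zero] at hab
    rcases smul_eq_zero.1 hab with h1 | h1
    · exact ⟨h1, rfl⟩
    · exact absurd h1 hu
  · exfalso
    apply h (-(b⁻¹ * a))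
    have : b • v = -(a • u) := eq_neg_of_add_eq_zero_right hab
    calc v = b⁻¹ • (b • v) := by rw [smul_smul, inv_mul_cancel₀ hb, one_smul]
      _ = -(b⁻¹ * a) • u := by rw [this]; module

theorem Ind.smul_right {u v : V} (h : Ind F u v) {c : F} (hc : c ≠ 0) : Ind F u (c • v) := by
  intro a b hab
  have := h a (b * c) (by rw [← hab]; module)
  exact ⟨this.1, (mul_eq_zero.1 this.2).resolve_right hc⟩

theorem Ind.smul_left {u v : V} (h : Ind F u v) {c : F} (hc : c ≠ 0) : Ind F (c • u) v :=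
  (h.symm.smul_right hc).symm

theorem Ind3.ind12 {u v w : V} (h : Ind3 F u v w) : Ind F u v := by
  intro a b hab
  have := h a b 0 (by rw [zero_smul, add_zero]; exact hab)
  exact ⟨this.1, this.2.1⟩

theorem Ind3.perm132 {u v w : V} (h : Ind3 F u v w) : Ind3 F u w v := by
  intro a b c habc
  have := h a c b (by rw [← habc]; abel)
  exact ⟨this.1, this.2.2, this.2.1⟩

theorem Ind3.perm213 {u v w : V} (h : Ind3 F u v w) : Ind3 F v u w := by
  intro a b c habc
  have := h b a c (by rw [← habc]; abel)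
  exact ⟨this.2.1, this.1, this.2.2⟩

theorem Ind3.ind13 {u v w : V} (h : Ind3 F u v w) : Ind F u w := h.perm132.ind12

theorem Ind3.ind23 {u v w : V} (h : Ind3 F u v w) : Ind F v w := h.perm213.perm132.ind12

theorem ind3_of_not_span {u v w : V} (h : Ind F u v) (hw : ∀ a b : F, w ≠ a • u + b • v) :
    Ind3 F u v w := by
  intro a b c habc
  by_cases hc : c = 0
  · subst hc
    rw [zero_smul, add_zero] at habc
    have := h a b habc
    exact ⟨this.1, this.2, rfl⟩
  · exfalso
    apply hw (-(c⁻¹ * a)) (-(c⁻¹ * b))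
    have : c • w = -(a • u + b • v) := eq_neg_of_add_eq_zero_right habc
    calc w = c⁻¹ • (c • w) := by rw [smul_smul, inv_mul_cancel₀ hc, one_smul]
      _ = -(c⁻¹ * a) • u + -(c⁻¹ * b) • v := by rw [this]; module

theorem Ind3.not_span {u v w : V} (h : Ind3 F u v w) (a b : F) : w ≠ a • u + b • v := by
  intro h0
  have := h a b (-1) (by rw [h0]; module)
  exact one_ne_zero (neg_eq_zero.1 this.2.2)

theorem Rep.ne {φ : V → V} (h : Coll F φ) {v v' : V} (hv : v ≠ 0) (hr : Rep F φ v v') : v' ≠ 0 := by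
  obtain ⟨d, hd, rfl⟩ := hr
  exact smul_ne_zero hd (h.ne v hv)

theorem Rep.smul {φ : V → V} {v v' : V} (hr : Rep F φ v v') {c : F} (hc : c ≠ 0) :
    Rep F φ v (c • v') := by
  obtain ⟨d, hd, rfl⟩ := hr
  exact ⟨c * d, mul_ne_zero hc hd, by rw [smul_smul]⟩

theorem Rep.self {φ : V → V} (v : V) : Rep F φ v (φ v) := ⟨1, one_ne_zero, (one_smul _ _).symm⟩

theorem Rep.ray {φ : V → V} {v v' v'' : V} (h1 : Rep F φ v v') (h2 : Rep F φ v v'') :
    ∃ c : F, c ≠ 0 ∧ v'' = c • v' := by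
  obtain ⟨d, hd, rfl⟩ := h1
  obtain ⟨d', hd', rfl⟩ := h2
  exact ⟨d' * d⁻¹, mul_ne_zero hd' (inv_ne_zero hd), by
    rw [smul_smul, mul_assoc, inv_mul_cancel₀ hd, mul_one]⟩

namespace Coll

variable {φ : V → V} (h : Coll F φ)
include h

theorem ind_phi {u v : V} (hi : Ind F u v) : Ind F (φ u) (φ v) := by
  apply ind_of_not_smul (h.ne u hi.ne_left)
  intro c hc
  have h1 : ∃ a b : F, φ v = a • φ u + b • φ u := ⟨c, 0, by rw [hc]; module⟩
  obtain ⟨a, b, hab⟩ := (h.col u u v hi.ne_left hi.ne_left hi.ne_right).2 h1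
  exact hi.not_smul (a + b) (by rw [hab]; module)

theorem ind3_phi {u v w : V} (hi : Ind3 F u v w) : Ind3 F (φ u) (φ v) (φ w) := by
  apply ind3_of_not_span (h.ind_phi hi.ind12)
  intro a b hab
  obtain ⟨a', b', hab'⟩ := (h.col u v w hi.ind12.ne_left hi.ind12.ne_right hi.ind13.ne_right).2
    ⟨a, b, hab⟩
  exact hi.not_span a' b' hab'

theorem ind_rep {u v u' v' : V} (hi : Ind F u v) (hu : Rep F φ u u') (hv : Rep F φ v v') :
    Ind F u' v' := by
  obtain ⟨d, hd, rfl⟩ := hu
  obtain ⟨d', hd', rfl⟩ := hv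
  exact ((h.ind_phi hi).smul_left hd).smul_right hd'

theorem ind3_rep {u v w u' v' w' : V} (hi : Ind3 F u v w) (hu : Rep F φ u u')
    (hv : Rep F φ v v') (hw : Rep F φ w w') : Ind3 F u' v' w' := by
  obtain ⟨d, hd, rfl⟩ := hu
  obtain ⟨d', hd', rfl⟩ := hv
  obtain ⟨d'', hd'', rfl⟩ := hw
  intro a b c habc
  have := h.ind3_phi hi (a * d) (b * d') (c * d'') (by rw [← habc]; module)
  exact ⟨(mul_eq_zero.1 this.1).resolve_right hd, (mul_eq_zero.1 this.2.1).resolve_right hd',
    (mul_eq_zero.1 this.2.2).resolve_right hd''⟩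

theorem span_rep {u v w u' v' w' : V} (hu0 : u ≠ 0) (hv0 : v ≠ 0) (hw0 : w ≠ 0)
    (hs : ∃ a b : F, w = a • u + b • v) (hu : Rep F φ u u') (hv : Rep F φ v v')
    (hw : Rep F φ w w') : ∃ a b : F, w' = a • u' + b • v' := by
  obtain ⟨a, b, hab⟩ := (h.col u v w hu0 hv0 hw0).1 hs
  obtain ⟨d, hd, rfl⟩ := hu
  obtain ⟨d', hd', rfl⟩ := hv
  obtain ⟨d'', hd'', rfl⟩ := hw
  refine ⟨d'' * a * d⁻¹, d'' * b * d'⁻¹, ?_⟩
  have e1 : d'' * a * d⁻¹ * d = d'' * a := by rw [mul_assoc, inv_mul_cancel₀ hd, mul_one]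
  have e2 : d'' * b * d'⁻¹ * d' = d'' * b := by rw [mul_assoc, inv_mul_cancel₀ hd', mul_one]
  rw [hab, smul_smul, smul_smul, e1, e2]
  module

theorem exists_norm {u v u' : V} (hi : Ind F u v) (hu : Rep F φ u u') :
    ∃ v', Rep F φ v v' ∧ Rep F φ (u + v) (u' + v') := by
  obtain ⟨a, b, hab⟩ := (h.col u v (u + v) hi.ne_left hi.ne_right hi.add_ne).1
    ⟨1, 1, by rw [one_smul, one_smul]⟩
  have hi' := h.ind_phi hi
  have ha : a ≠ 0 := by
    intro ha
    rw [ha, zero_smul, zero_add] at hab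
    obtain ⟨a', b', hab'⟩ := (h.col v v (u + v) hi.ne_right hi.ne_right hi.add_ne).2
      ⟨b, 0, by rw [hab]; module⟩
    have := hi 1 (1 - a' - b') (by
      have e : (1 : F) • u + (1 - a' - b') • v = (u + v) - (a' • v + b' • v) := by module
      rw [e, ← hab', sub_self])
    exact one_ne_zero this.1
  have hb : b ≠ 0 := by
    intro hb
    rw [hb, zero_smul, add_zero] at hab
    obtain ⟨a', b', hab'⟩ := (h.col u u (u + v) hi.ne_left hi.ne_left hi.add_ne).2
      ⟨a, 0, by rw [hab]; module⟩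
    have := hi (1 - a' - b') 1 (by
      have e : (1 - a' - b') • u + (1 : F) • v = (u + v) - (a' • u + b' • u) := by module
      rw [e, ← hab', sub_self])
    exact one_ne_zero this.2
  obtain ⟨c, hc, rfl⟩ := hu
  refine ⟨(c * b * a⁻¹) • φ v, ⟨c * b * a⁻¹, mul_ne_zero (mul_ne_zero hc hb) (inv_ne_zero ha), rfl⟩,
    ⟨c * a⁻¹, mul_ne_zero hc (inv_ne_zero ha), ?_⟩⟩
  have e1 : c * a⁻¹ * a = c := by rw [mul_assoc, inv_mul_cancel₀ ha, mul_one]
  have e2 : c * a⁻¹ * b = c * b * a⁻¹ := by ring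
  rw [hab, smul_add, smul_smul, smul_smul, e1, e2]

theorem norm_unique {u v u' v' v'' : V} (hi : Ind F u v) (hu : Rep F φ u u')
    (hv : Rep F φ v v') (hs : Rep F φ (u + v) (u' + v'))
    (hs' : Rep F φ (u + v) (u' + v'')) (hv' : Rep F φ v v'') : v' = v'' := by
  obtain ⟨c, hc, hc'⟩ := Rep.ray hv hv'
  obtain ⟨e, he, he'⟩ := Rep.ray hs hs'
  have hi' := h.ind_rep hi hu hv
  have := hi' (1 - e) (c - e) (by
    have e1 : (1 - e) • u' + (c - e) • v' = (u' + c • v') - e • (u' + v') := by module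
    rw [e1, ← hc', he', sub_self])
  have h1 : e = 1 := (sub_eq_zero.1 this.1).symm
  have h2 : c = 1 := by rw [← h1]; exact sub_eq_zero.1 this.2
  rw [hc', h2, one_smul]

/-- the triangle lemma -/
theorem tri {a b c a' b' c' : V} (hi : Ind3 F a b c) (ha : Rep F φ a a') (hb : Rep F φ b b')
    (hc : Rep F φ c c') (hab : Rep F φ (a + b) (a' + b')) (hac : Rep F φ (a + c) (a' + c')) :
    Rep F φ (a + b + c) (a' + b' + c') ∧ Rep F φ (b + c) (b' + c') := by
  have hi' := h.ind3_rep hi ha hb hc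
  have ha0 := hi.ind12.ne_left
  have hb0 := hi.ind12.ne_right
  have hc0 := hi.ind13.ne_right
  have hab0 := hi.ind12.add_ne
  have hac0 := hi.ind13.add_ne
  have hbc0 := hi.ind23.add_ne
  have habc0 : a + b + c ≠ 0 := by
    intro h0
    have := hi 1 1 1 (by rw [one_smul, one_smul, one_smul]; exact h0)
    exact one_ne_zero this.1
  obtain ⟨x, y, hxy⟩ := h.span_rep hab0 hc0 habc0 ⟨1, 1, by module⟩ hab hc (Rep.self (a + b + c))
  obtain ⟨z, w, hzw⟩ := h.span_rep hac0 hb0 habc0 ⟨1, 1, by module⟩ hac hb (Rep.self (a + b + c))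
  have h1 := hi' (x - z) (x - w) (y - z) (by
    have e : (x - z) • a' + (x - w) • b' + (y - z) • c' =
        (x • (a' + b') + y • c') - (z • (a' + c') + w • b') := by module
    rw [e, ← hxy, ← hzw, sub_self])
  have hxz : x = z := sub_eq_zero.1 h1.1
  have hyz : y = z := sub_eq_zero.1 h1.2.2
  have hs : φ (a + b + c) = x • (a' + b' + c') := by
    rw [hxy, hyz, ← hxz]; module
  have hx : x ≠ 0 := by
    intro hx
    rw [hx, zero_smul] at hs
    exact h.ne _ habc0 hs
  have r1 : Rep F φ (a + b + c) (a' + b' + c') :=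
    ⟨x⁻¹, inv_ne_zero hx, by rw [hs, smul_smul, inv_mul_cancel₀ hx, one_smul]⟩
  refine ⟨r1, ?_⟩
  obtain ⟨s, t, hst⟩ := h.span_rep hb0 hc0 hbc0 ⟨1, 1, by module⟩ hb hc (Rep.self (b + c))
  obtain ⟨u, v, huv⟩ := h.span_rep habc0 ha0 hbc0 ⟨1, -1, by module⟩ r1 ha (Rep.self (b + c))
  have h2 := hi' (u + v) (u - s) (u - t) (by
    have e : (u + v) • a' + (u - s) • b' + (u - t) • c' =
        (u • (a' + b' + c') + v • a') - (s • b' + t • c') := by module
    rw [e, ← huv, ← hst, sub_self])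
  have hus : u = s := sub_eq_zero.1 h2.2.1
  have hut : u = t := sub_eq_zero.1 h2.2.2
  have hs2 : φ (b + c) = u • (b' + c') := by
    rw [hst, ← hus, ← hut]; module
  have hu : u ≠ 0 := by
    intro hu
    rw [hu, zero_smul] at hs2
    exact h.ne _ hbc0 hs2
  exact ⟨u⁻¹, inv_ne_zero hu, by rw [hs2, smul_smul, inv_mul_cancel₀ hu, one_smul]⟩


/-- base change -/
theorem bc {a b v a' b' v' : V} (hab : Ind F a b) (hav : Ind F a v) (hbv : Ind F b v)
    (ha : Rep F φ a a') (hb : Rep F φ b b') (hv : Rep F φ v v')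
    (hab' : Rep F φ (a + b) (a' + b')) (hav' : Rep F φ (a + v) (a' + v')) :
    Rep F φ (b + v) (b' + v') := by
  by_cases h3 : ∀ x y : F, v ≠ x • a + y • b
  · have hi := ind3_of_not_span hab h3
    exact (h.tri hi ha hb hv hab' hav').2
  · push Not at h3
    obtain ⟨α, β, hvv⟩ := h3
    obtain ⟨c, hc⟩ := h.dim a b
    have hi := ind3_of_not_span hab hc
    obtain ⟨c', hc1, hc2⟩ := h.exists_norm hi.ind13 ha
    have hbc : Rep F φ (b + c) (b' + c') := (h.tri hi ha hb hc1 hab' hc2).2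
    have hα : α ≠ 0 := by
      intro h0
      rw [h0, zero_smul, zero_add] at hvv
      exact hbv.not_smul β hvv
    have hβ : β ≠ 0 := by
      intro h0
      rw [h0, zero_smul, add_zero] at hvv
      exact hav.not_smul α hvv
    have hi2 : Ind3 F a c v := by
      intro x y z hxyz
      have := hi (x + z * α) (z * β) y (by rw [← hxyz, hvv]; module)
      have hz : z = 0 := (mul_eq_zero.1 this.2.1).resolve_right hβ
      refine ⟨?_, this.2.2, hz⟩
      have h5 := this.1
      rw [hz, zero_mul, add_zero] at h5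
      exact h5
    have hcv : Rep F φ (c + v) (c' + v') := (h.tri hi2 ha hc1 hv hc2 hav').2
    have hi3 : Ind3 F c b v := by
      intro x y z hxyz
      have := hi (z * α) (y + z * β) x (by rw [← hxyz, hvv]; module)
      have hz : z = 0 := (mul_eq_zero.1 this.1).resolve_right hα
      refine ⟨this.2.2, ?_, hz⟩
      have h5 := this.2.1
      rw [hz, zero_mul, add_zero] at h5
      exact h5
    have hcb : Rep F φ (c + b) (c' + b') := by
      rw [add_comm c b, add_comm c' b']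
      exact hbc
    exact (h.tri hi3 hc1 hb hv hcb hcv).2

omit h in
theorem exists_smul_of_not_ind {e v : V} (he : e ≠ 0) (hv : v ≠ 0) (hn : ¬ Ind F e v) :
    ∃ c : F, c ≠ 0 ∧ v = c • e := by
  by_contra hcon
  push Not at hcon
  apply hn
  apply ind_of_not_smul he
  intro c hc
  by_cases hc0 : c = 0
  · rw [hc0, zero_smul] at hc
    exact hv hc
  · exact hcon c hc0 hc

omit h in
theorem three_bases {e f k u v : V} (hi : Ind3 F e f k) (huv : Ind F u v) :
    (Ind F e u ∧ Ind F e v) ∨ (Ind F f u ∧ Ind F f v) ∨ (Ind F k u ∧ Ind F k v) := by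
  have he := hi.ind12.ne_left
  have hf := hi.ind12.ne_right
  have hk := hi.ind13.ne_right
  have hu := huv.ne_left
  have hv := huv.ne_right
  have two : ∀ {b b' w : V}, Ind F b b' → w ≠ 0 → ¬ Ind F b w → Ind F b' w := by
    intro b b' w hbb hw hn
    obtain ⟨c, hc, rfl⟩ := exists_smul_of_not_ind hbb.ne_left hw hn
    exact hbb.symm.smul_right hc
  by_cases h1 : Ind F e u ∧ Ind F e v
  · exact Or.inl h1
  by_cases h2 : Ind F f u ∧ Ind F f v
  · exact Or.inr (Or.inl h2)
  right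
  right
  by_cases h3 : Ind F e u
  · have h4 : ¬ Ind F e v := fun h4 => h1 ⟨h3, h4⟩
    have h5 : Ind F f v := two hi.ind12 hv h4
    have h6 : ¬ Ind F f u := fun h6 => h2 ⟨h6, h5⟩
    exact ⟨two hi.ind23 hu h6, two hi.ind13 hv h4⟩
  · have h5 : Ind F f u := two hi.ind12 hu h3
    have h6 : ¬ Ind F f v := fun h6 => h2 ⟨h5, h6⟩
    exact ⟨two hi.ind13 hu h3, two hi.ind23 hv h6⟩

theorem exists_coherent : ∃ g : V → V, g 0 = 0 ∧ (∀ v, v ≠ 0 → Rep F φ v (g v)) ∧
    ∀ u v, Ind F u v → Rep F φ (u + v) (g u + g v) := by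
  classical
  obtain ⟨e, he⟩ := h.dim 0 0
  have he0 : e ≠ 0 := by
    intro h0
    exact he 0 0 (by rw [h0]; simp)
  obtain ⟨f, hf⟩ := h.dim e 0
  have hef : Ind F e f := ind_of_not_smul he0 (fun c hc => hf c 0 (by rw [hc]; simp))
  obtain ⟨k, hk⟩ := h.dim e f
  have hi := ind3_of_not_span hef hk
  obtain ⟨f', hf1, hf2⟩ := h.exists_norm hef (Rep.self e)
  obtain ⟨k', hk1, hk2⟩ := h.exists_norm hi.ind13 (Rep.self e)
  have hfk : Rep F φ (f + k) (f' + k') := (h.tri hi (Rep.self e) hf1 hk1 hf2 hk2).2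
  let P : V → V → Prop := fun v v' => Rep F φ v v' ∧ (Ind F e v → Rep F φ (e + v) (φ e + v')) ∧
    (Ind F f v → Rep F φ (f + v) (f' + v')) ∧ (Ind F k v → Rep F φ (k + v) (k' + v'))
  have hP : ∀ v, v ≠ 0 → ∃ v', P v v' := by
    intro v hv
    by_cases h1 : Ind F e v
    · obtain ⟨v', hv1, hv2⟩ := h.exists_norm h1 (Rep.self e)
      refine ⟨v', hv1, fun _ => hv2, fun h2 => ?_, fun h2 => ?_⟩
      · exact h.bc hef h1 h2 (Rep.self e) hf1 hv1 hf2 hv2
      · exact h.bc hi.ind13 h1 h2 (Rep.self e) hk1 hv1 hk2 hv2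
    · obtain ⟨c, hc, rfl⟩ := exists_smul_of_not_ind he0 hv h1
      have h2 : Ind F f (c • e) := hef.symm.smul_right hc
      obtain ⟨v', hv1, hv2⟩ := h.exists_norm h2 hf1
      refine ⟨v', hv1, fun h3 => absurd h3 h1, fun _ => hv2, fun h3 => ?_⟩
      exact h.bc hi.ind23 h2 h3 hf1 hk1 hv1 hfk hv2
  let g : V → V := fun v => if hv : v = 0 then 0 else Classical.choose (hP v hv)
  have hg : ∀ v, v ≠ 0 → P v (g v) := by
    intro v hv
    have e1 : g v = Classical.choose (hP v hv) := dif_neg hv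
    rw [e1]
    exact Classical.choose_spec (hP v hv)
  refine ⟨g, dif_pos rfl, fun v hv => (hg v hv).1, ?_⟩
  intro u v huv
  have hu := hg u huv.ne_left
  have hv := hg v huv.ne_right
  rcases three_bases hi huv with ⟨h1, h2⟩ | ⟨h1, h2⟩ | ⟨h1, h2⟩
  · exact h.bc h1 h2 huv (Rep.self e) hu.1 hv.1 (hu.2.1 h1) (hv.2.1 h2)
  · exact h.bc h1 h2 huv hf1 hu.1 hv.1 (hu.2.2.1 h1) (hv.2.2.1 h2)
  · exact h.bc h1 h2 huv hk1 hu.1 hv.1 (hu.2.2.2 h1) (hv.2.2.2 h2)

theorem coherent_add {g : V → V} (g0 : g 0 = 0) (g1 : ∀ v, v ≠ 0 → Rep F φ v (g v))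
    (g2 : ∀ u v, Ind F u v → Rep F φ (u + v) (g u + g v)) (u v : V) :
    g (u + v) = g u + g v := by
  have key : ∀ u v, Ind F u v → g (u + v) = g u + g v := by
    intro u v huv
    obtain ⟨w, hw⟩ := h.dim u v
    have hi := ind3_of_not_span huv hw
    have r1 := (h.tri hi (g1 u huv.ne_left) (g1 v huv.ne_right) (g1 w hi.ind13.ne_right)
      (g2 u v huv) (g2 u w hi.ind13)).1
    have hi2 : Ind F (u + v) w := by
      intro a b hab
      have := hi a a b (by rw [← hab]; module)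
      exact ⟨this.1, this.2.2⟩
    have r2 := g2 (u + v) w hi2
    obtain ⟨c, hc, hc'⟩ := Rep.ray (g1 (u + v) huv.add_ne) (g2 u v huv)
    obtain ⟨d, hd, hd'⟩ := Rep.ray r2 r1
    have hi3 := h.ind_rep hi2 (g1 _ huv.add_ne) (g1 w hi.ind13.ne_right)
    have := hi3 (c - d) (1 - d) (by
      have e : (c - d) • g (u + v) + (1 - d) • g w =
          (c • g (u + v) + g w) - d • (g (u + v) + g w) := by module
      rw [e, ← hc', ← hd', sub_self])
    have hd1 : d = 1 := (sub_eq_zero.1 this.2).symm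
    have hc1 : c = 1 := by
      rw [← hd1]
      exact sub_eq_zero.1 this.1
    rw [hc', hc1, one_smul]
  by_cases hu : u = 0
  · rw [hu, zero_add, g0, zero_add]
  by_cases hv : v = 0
  · rw [hv, add_zero, g0, add_zero]
  by_cases huv : Ind F u v
  · exact key u v huv
  obtain ⟨c, hc, rfl⟩ := exists_smul_of_not_ind hu hv huv
  obtain ⟨w, hw⟩ := h.dim u 0
  have huw : Ind F u w := ind_of_not_smul hu (fun a ha => hw a 0 (by rw [ha]; simp))
  have h1 : Ind F u (c • u + w) := by
    intro a b hab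
    have := huw (a + b * c) b (by rw [← hab]; module)
    refine ⟨?_, this.2⟩
    have h5 := this.1
    rw [this.2, zero_mul, add_zero] at h5
    exact h5
  have h2 : Ind F (c • u) w := huw.smul_left hc
  have e1 : g (u + (c • u + w)) = g u + (g (c • u) + g w) := by
    rw [key u _ h1, key _ _ h2]
  by_cases h3 : u + c • u = 0
  · rw [h3, g0]
    have e2 : u + (c • u + w) = w := by rw [← add_assoc, h3, zero_add]
    rw [e2] at e1
    have e3 : g w = (g u + g (c • u)) + g w := by rw [add_assoc]; exact e1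
    have e4 : (0 : V) + g w = (g u + g (c • u)) + g w := by rw [zero_add]; exact e3
    exact add_right_cancel e4
  · have h4 : Ind F (u + c • u) w := by
      intro a b hab
      have h5 : u + c • u = (1 + c) • u := by module
      have h6 : (1 + c) ≠ 0 := by
        intro h7
        rw [h5, h7, zero_smul] at h3
        exact h3 rfl
      rw [h5] at hab
      exact (huw.smul_left h6) a b hab
    have e2 : g (u + (c • u + w)) = g (u + c • u) + g w := by
      rw [← add_assoc, key _ _ h4]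
    rw [e2, ← add_assoc] at e1
    exact add_right_cancel e1

/-- **The fundamental theorem of projective geometry.** -/
theorem main : ∃ (σ : F →+* F) (g : V → V), (∀ u v, g (u + v) = g u + g v) ∧
    (∀ (c : F) (v : V), g (c • v) = σ c • g v) ∧ ∀ v, v ≠ 0 → ∃ d : F, d ≠ 0 ∧ g v = d • φ v := by
  classical
  obtain ⟨g, g0, g1, g2⟩ := h.exists_coherent
  have A := h.coherent_add g0 g1 g2
  have gne : ∀ v, v ≠ 0 → g v ≠ 0 := fun v hv => Rep.ne h hv (g1 v hv)
  have ray : ∀ v, v ≠ 0 → ∀ c : F, ∃ k : F, g (c • v) = k • g v := by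
    intro v hv c
    by_cases hc : c = 0
    · exact ⟨0, by rw [hc, zero_smul, zero_smul, g0]⟩
    · have hcv : c • v ≠ 0 := smul_ne_zero hc hv
      obtain ⟨a, b, hab⟩ := (h.col v v (c • v) hv hv hcv).1 ⟨c, 0, by module⟩
      obtain ⟨d, hd, hd'⟩ := g1 (c • v) hcv
      obtain ⟨d₂, hd₂, hd₂'⟩ := g1 v hv
      refine ⟨d * (a + b) * d₂⁻¹, ?_⟩
      have e1 : d * (a + b) * d₂⁻¹ * d₂ = d * (a + b) := by
        rw [mul_assoc, inv_mul_cancel₀ hd₂, mul_one]
      rw [hd', hab, hd₂', smul_smul, e1]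
      module
  have uniq : ∀ v, v ≠ 0 → ∀ k k' : F, k • g v = k' • g v → k = k' := by
    intro v hv k k' hk
    have h1 : (k - k') • g v = 0 := by rw [sub_smul, hk, sub_self]
    rcases smul_eq_zero.1 h1 with h2 | h2
    · exact sub_eq_zero.1 h2
    · exact absurd h2 (gne v hv)
  have indep : ∀ u v, Ind F u v → ∀ (c k₁ k₂ : F), g (c • u) = k₁ • g u → g (c • v) = k₂ • g v →
      k₁ = k₂ := by
    intro u v huv c k₁ k₂ h1 h2
    obtain ⟨k₃, h3⟩ := ray (u + v) huv.add_ne c
    have hi := h.ind_rep huv (g1 u huv.ne_left) (g1 v huv.ne_right)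
    have e : g (c • (u + v)) = k₁ • g u + k₂ • g v := by rw [smul_add, A, h1, h2]
    rw [h3, A] at e
    have := hi (k₃ - k₁) (k₃ - k₂) (by
      have e2 : (k₃ - k₁) • g u + (k₃ - k₂) • g v = k₃ • (g u + g v) - (k₁ • g u + k₂ • g v) := by
        module
      rw [e2, e, sub_self])
    rw [← sub_eq_zero.1 this.1, ← sub_eq_zero.1 this.2]
  obtain ⟨e, he⟩ := h.dim 0 0
  have he0 : e ≠ 0 := by
    intro h0
    exact he 0 0 (by rw [h0]; simp)
  obtain ⟨f, hf⟩ := h.dim e 0
  have hef : Ind F e f := ind_of_not_smul he0 (fun c hc => hf c 0 (by rw [hc]; simp))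
  let σ : F → F := fun c => Classical.choose (ray e he0 c)
  have hσ : ∀ c, g (c • e) = σ c • g e := fun c => Classical.choose_spec (ray e he0 c)
  have semi : ∀ (c : F) (v : V), g (c • v) = σ c • g v := by
    intro c v
    by_cases hv : v = 0
    · rw [hv, smul_zero, g0, smul_zero]
    obtain ⟨k, hk⟩ := ray v hv c
    rw [hk]
    congr 1
    by_cases h1 : Ind F e v
    · exact (indep e v h1 c (σ c) k (hσ c) hk).symm
    · obtain ⟨d, hd, rfl⟩ := exists_smul_of_not_ind he0 hv h1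
      have h2 : Ind F f (d • e) := hef.symm.smul_right hd
      obtain ⟨k', hk'⟩ := ray f hef.ne_right c
      rw [← indep f (d • e) h2 c k' k hk' hk, indep e f hef c (σ c) k' (hσ c) hk']
  have σ1 : σ 1 = 1 := by
    apply uniq e he0
    rw [← hσ, one_smul, one_smul]
  have σmul : ∀ a b, σ (a * b) = σ a * σ b := by
    intro a b
    apply uniq e he0
    rw [← hσ, mul_smul, semi a, hσ b, smul_smul]
  have σadd : ∀ a b, σ (a + b) = σ a + σ b := by
    intro a b
    apply uniq e he0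
    rw [← hσ, add_smul, A, hσ, hσ, add_smul]
  have σ0 : σ 0 = 0 := by
    apply uniq e he0
    rw [← hσ, zero_smul, zero_smul, g0]
  exact ⟨{ toFun := σ, map_one' := σ1, map_mul' := σmul, map_zero' := σ0, map_add' := σadd },
    g, A, semi, g1⟩

end Coll

end Cfsg.Agent.Lib.Helper53.FTPG
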