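import Cfsg.Agent.Lib.Helper38.T73DER2

/-!
# Project H74 (S5974, helper98), piece SIEGOM (backup copy `H74SIEGOMb`)

Characteristic 2, `d ≥ 3`: the Siegel element `fromBlocks 1 S 0 1` (`S` symmetric with zero
diagonal) lies in `Ω⁺_{2d}`: it is a product of commutators `[diag(A, A⁻ᵀ), x_T]` with
`A = 1 + E_bc`, `T = s (E_ac + E_ca)`, which equal `x_{s (E_ab + E_ba)}`.
(Imports only `Helper38.T73DER2` for `der2_omega`, `der2_iso`; nothing of `H74Defs` is needed.)
-/

set_option autoImplicit false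
set_option linter.unusedSectionVars false
set_option linter.unusedSimpArgs false

namespace Cfsg.Agent.Lib.Helper98.H74

open Cfsg.Agent.Lib.Helper47 Cfsg.Agent.Lib.Helper98.T73 Module Polynomial
open scoped commutatorElement Matrix

universe u

variable {F : Type u} [Field F] [Fintype F] {V : Type u} [AddCommGroup V] [Module F V]
  [FiniteDimensional F V] {Q : V → F} {B : V → V → F}

theorem siegomb_exists {d : ℕ} (T : Matrix (Fin d) (Fin d) F) :
    ∃ x : GL (Fin d ⊕ Fin d) F,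
      (x : Matrix (Fin d ⊕ Fin d) (Fin d ⊕ Fin d) F) = Matrix.fromBlocks 1 T 0 1 :=
  ⟨⟨Matrix.fromBlocks 1 T 0 1, Matrix.fromBlocks 1 (-T) 0 1,
    by simp [Matrix.fromBlocks_multiply, Matrix.fromBlocks_one],
    by simp [Matrix.fromBlocks_multiply, Matrix.fromBlocks_one]⟩, rfl⟩

theorem siegomb_iso [CharP F 2] {d : ℕ} (T : Matrix (Fin d) (Fin d) F) (hT0 : ∀ a, T a a = 0)
    (hTt : T.transpose = T) (x : GL (Fin d ⊕ Fin d) F)
    (hx : (x : Matrix (Fin d ⊕ Fin d) (Fin d ⊕ Fin d) F) = Matrix.fromBlocks 1 T 0 1) :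
    x ∈ Cfsg.isometryGroup F (Cfsg.quadFormPlus d F) := by
  intro u _
  show Cfsg.quadFormPlus d F ((x : Matrix (Fin d ⊕ Fin d) (Fin d ⊕ Fin d) F) *ᵥ u)
    = Cfsg.quadFormPlus d F u
  rw [hx]
  unfold Cfsg.quadFormPlus
  have h1 : ∀ i, ((Matrix.fromBlocks 1 T 0 1 :
      Matrix (Fin d ⊕ Fin d) (Fin d ⊕ Fin d) F) *ᵥ u) (Sum.inl i)
      = u (Sum.inl i) + (T *ᵥ (u ∘ Sum.inr)) i := by
    intro i; rw [Matrix.fromBlocks_mulVec]; simp
  have h2 : ∀ i, ((Matrix.fromBlocks 1 T 0 1 :
      Matrix (Fin d ⊕ Fin d) (Fin d ⊕ Fin d) F) *ᵥ u) (Sum.inr i)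
      = u (Sum.inr i) := by
    intro i; rw [Matrix.fromBlocks_mulVec]; simp
  simp only [h1, h2, add_mul, Finset.sum_add_distrib]
  suffices h : ∑ i, (T *ᵥ (u ∘ Sum.inr)) i * u (Sum.inr i) = 0 by rw [h, add_zero]
  simp only [Matrix.mulVec, dotProduct, Finset.sum_mul, Function.comp_apply]
  rw [← Finset.sum_product']
  apply Finset.sum_involution (fun p _ => (p.2, p.1))
  · intro p _
    have hsym : T p.1 p.2 = T p.2 p.1 := congrFun (congrFun hTt p.2) p.1
    show T p.1 p.2 * u (Sum.inr p.2) * u (Sum.inr p.1)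
      + T p.2 p.1 * u (Sum.inr p.1) * u (Sum.inr p.2) = 0
    rw [← hsym]
    linear_combination (T p.1 p.2 * u (Sum.inr p.1) * u (Sum.inr p.2)) *
      (CharTwo.two_eq_zero : (2 : F) = 0)
  · intro p _ hne heq
    apply hne
    have h12 : p.2 = p.1 := congrArg Prod.fst heq
    show T p.1 p.2 * u (Sum.inr p.2) * u (Sum.inr p.1) = 0
    rw [h12, hT0, zero_mul, zero_mul]
  · intro p _
    exact Finset.mem_univ _
  · intro p _
    rfl

/-- the basic matrix identity -/
theorem siegomb_mat {d : ℕ} (a b c : Fin d) (hab : a ≠ b) (hca : c ≠ a) (hcb : c ≠ b) (s : F) :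
    (1 + Matrix.single b c (1 : F)) * (Matrix.single a c s + Matrix.single c a s) *
        (1 + Matrix.single c b (1 : F))
      = (Matrix.single a b s + Matrix.single b a s) + (Matrix.single a c s + Matrix.single c a s) := by
  have hac : a ≠ c := fun h => hca h.symm
  have hbc : b ≠ c := fun h => hcb h.symm
  simp only [mul_add, add_mul, one_mul, mul_one, Matrix.single_mul_single_same,
    Matrix.single_mul_single_of_ne _ _ _ _ hca, Matrix.single_mul_single_of_ne _ _ _ _ hac,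
    Matrix.single_mul_single_of_ne _ _ _ _ hcb, Matrix.single_mul_single_of_ne _ _ _ _ hbc,
    Matrix.single_mul_single_of_ne _ _ _ _ hab, add_zero, zero_add, mul_zero, zero_mul]
  abel

/-- the elementary Siegel elements are commutators of isometries -/
theorem siegomb_elem [CharP F 2] {d : ℕ} (a b c : Fin d) (hab : a ≠ b) (hca : c ≠ a)
    (hcb : c ≠ b) (s : F) :
    ∃ x : GL (Fin d ⊕ Fin d) F, x ∈ Cfsg.Geo.omegaGL (Cfsg.quadFormPlus d F) ∧
      (x : Matrix (Fin d ⊕ Fin d) (Fin d ⊕ Fin d) F)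
        = Matrix.fromBlocks 1 (Matrix.single a b s + Matrix.single b a s) 0 1 := by
  have hac : a ≠ c := fun h => hca h.symm
  have hbc : b ≠ c := fun h => hcb h.symm
  have hE2 : Matrix.single b c (1 : F) * Matrix.single b c (1 : F) = 0 :=
    Matrix.single_mul_single_of_ne (1 : F) b c b hcb (1 : F)
  obtain ⟨A, hA⟩ : ∃ A : GL (Fin d) F, (A : Matrix (Fin d) (Fin d) F) = 1 + Matrix.single b c 1 :=
    ⟨⟨1 + Matrix.single b c 1, 1 - Matrix.single b c 1,
      by rw [mul_sub, mul_one, add_mul, one_mul, hE2]; abel,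
      by rw [mul_add, mul_one, sub_mul, one_mul, hE2]; abel⟩, rfl⟩
  obtain ⟨X, hX⟩ := siegomb_exists (Matrix.single a c s + Matrix.single c a s)
  obtain ⟨Y, hY⟩ := siegomb_exists (Matrix.single a b s + Matrix.single b a s)
  have hXiso : X ∈ Cfsg.isometryGroup F (Cfsg.quadFormPlus d F) := by
    apply siegomb_iso _ _ _ X hX
    · intro i
      rw [Matrix.add_apply, Matrix.single_apply_of_ne, Matrix.single_apply_of_ne, add_zero]
      · rintro ⟨h1, h2⟩; exact hca (h1.trans h2.symm)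
      · rintro ⟨h1, h2⟩; exact hac (h1.trans h2.symm)
    · rw [Matrix.transpose_add, Matrix.transpose_single, Matrix.transpose_single, add_comm]
  have hHiso := der2_iso d A
  have hAi : ((A⁻¹ : GL (Fin d) F) : Matrix (Fin d) (Fin d) F) * (A : Matrix (Fin d) (Fin d) F) = 1 := by
    rw [← Units.val_mul, inv_mul_cancel, Units.val_one]
  have hkey : (hypMat.toHomUnits A : GL (Fin d ⊕ Fin d) F) * X
      = Y * X * (hypMat.toHomUnits A : GL (Fin d ⊕ Fin d) F) := by
    apply Units.ext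
    rw [Units.val_mul, Units.val_mul, Units.val_mul, MonoidHom.coe_toHomUnits, hypMat_apply, hX, hY,
      Matrix.fromBlocks_multiply, Matrix.fromBlocks_multiply, Matrix.fromBlocks_multiply]
    have h3 : (A : Matrix (Fin d) (Fin d) F) * (Matrix.single a c s + Matrix.single c a s)
        = ((Matrix.single a b s + Matrix.single b a s) + (Matrix.single a c s + Matrix.single c a s))
          * ((A⁻¹ : GL (Fin d) F) : Matrix (Fin d) (Fin d) F).transpose := by
      rw [← siegomb_mat a b c hab hca hcb s, ← hA]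
      have h4 : (1 + Matrix.single c b (1 : F)) = (A : Matrix (Fin d) (Fin d) F).transpose := by
        rw [hA, Matrix.transpose_add, Matrix.transpose_one, Matrix.transpose_single]
      rw [h4, mul_assoc, ← Matrix.transpose_mul, hAi, Matrix.transpose_one, mul_one]
    simp only [mul_zero, zero_mul, add_zero, zero_add, mul_one, one_mul]
    rw [h3, add_comm (Matrix.single a b s + Matrix.single b a s)
      (Matrix.single a c s + Matrix.single c a s)]
  have hcomm : ⁅(hypMat.toHomUnits A : GL (Fin d ⊕ Fin d) F), X⁆ = Y := by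
    rw [commutatorElement_def, hkey]
    group
  refine ⟨Y, ?_, hY⟩
  rw [der2_omega, ← hcomm]
  exact Subgroup.commutator_mem_commutator hHiso hXiso

/-- SIEGOM -/
theorem siegel_mem_omega [CharP F 2] (d : ℕ) (hd : 3 ≤ d) (S : Matrix (Fin d) (Fin d) F)
    (hS0 : ∀ a, S a a = 0) (hSt : S.transpose = S) :
    ∃ x : GL (Fin d ⊕ Fin d) F, x ∈ Cfsg.Geo.omegaGL (Cfsg.quadFormPlus d F) ∧
      (x : Matrix (Fin d ⊕ Fin d) (Fin d ⊕ Fin d) F) = Matrix.fromBlocks 1 S 0 1 := by
  classical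
  obtain ⟨P, hP⟩ : ∃ P : Matrix (Fin d) (Fin d) F → Prop, ∀ T, P T ↔
      ∃ x : GL (Fin d ⊕ Fin d) F, x ∈ Cfsg.Geo.omegaGL (Cfsg.quadFormPlus d F) ∧
        (x : Matrix (Fin d ⊕ Fin d) (Fin d ⊕ Fin d) F) = Matrix.fromBlocks 1 T 0 1 :=
    ⟨_, fun T => Iff.rfl⟩
  have hP0 : P 0 :=
    (hP 0).mpr ⟨1, Subgroup.one_mem _, by rw [Units.val_one, Matrix.fromBlocks_one]⟩
  have hPadd : ∀ T₁ T₂, P T₁ → P T₂ → P (T₁ + T₂) := by
    intro T₁ T₂ h1 h2
    obtain ⟨x₁, h₁, e₁⟩ := (hP T₁).mp h1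
    obtain ⟨x₂, h₂, e₂⟩ := (hP T₂).mp h2
    refine (hP _).mpr ⟨x₁ * x₂, Subgroup.mul_mem _ h₁ h₂, ?_⟩
    rw [Units.val_mul, e₁, e₂, Matrix.fromBlocks_multiply]
    simp [add_comm]
  have hPelem : ∀ (a b : Fin d) (s : F), a ≠ b →
      P (Matrix.single a b s + Matrix.single b a s) := by
    intro a b s hab
    obtain ⟨n, hn, h1, h2⟩ : ∃ n, n < d ∧ n ≠ a.val ∧ n ≠ b.val := by
      have ha := a.2
      have hb := b.2
      have hne : a.val ≠ b.val := fun h => hab (Fin.ext h)
      by_cases h0 : a.val ≠ 0 ∧ b.val ≠ 0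
      · exact ⟨0, by omega, by omega, by omega⟩
      · by_cases h1 : a.val ≠ 1 ∧ b.val ≠ 1
        · exact ⟨1, by omega, by omega, by omega⟩
        · exact ⟨2, by omega, by omega, by omega⟩
    have hca : (⟨n, hn⟩ : Fin d) ≠ a := fun h => h1 (congrArg Fin.val h)
    have hcb : (⟨n, hn⟩ : Fin d) ≠ b := fun h => h2 (congrArg Fin.val h)
    exact (hP _).mpr (siegomb_elem a b ⟨n, hn⟩ hab hca hcb s)
  obtain ⟨U, hU⟩ : ∃ U : Matrix (Fin d) (Fin d) F, ∀ i j, U i j = if i < j then S i j else 0 :=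
    ⟨Matrix.of fun i j => if i < j then S i j else 0, fun i j => rfl⟩
  have hSU : S = U + U.transpose := by
    ext i j
    rw [Matrix.add_apply, Matrix.transpose_apply, hU, hU]
    rcases lt_trichotomy i j with h | h | h
    · rw [if_pos h, if_neg (not_lt.mpr h.le), add_zero]
    · rw [h, if_neg (lt_irrefl j), add_zero, hS0]
    · rw [if_neg (not_lt.mpr h.le), if_pos h, zero_add]
      exact congrFun (congrFun hSt j) i
  have hUsum : U = ∑ i, ∑ j, Matrix.single i j (U i j) := Matrix.matrix_eq_sum_single U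
  have hUt : U.transpose = ∑ i, ∑ j, Matrix.single j i (U i j) := by
    conv_lhs => rw [hUsum]
    rw [Matrix.transpose_sum]
    refine Finset.sum_congr rfl fun i _ => ?_
    rw [Matrix.transpose_sum]
    refine Finset.sum_congr rfl fun j _ => ?_
    rw [Matrix.transpose_single]
  have hSsum : S = ∑ i, ∑ j, (Matrix.single i j (U i j) + Matrix.single j i (U i j)) := by
    calc S = U + U.transpose := hSU
      _ = (∑ i, ∑ j, Matrix.single i j (U i j)) + ∑ i, ∑ j, Matrix.single j i (U i j) := by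
        rw [← hUsum, ← hUt]
      _ = ∑ i, ∑ j, (Matrix.single i j (U i j) + Matrix.single j i (U i j)) := by
        simp only [Finset.sum_add_distrib]
  rw [hSsum]
  apply (hP _).mp
  apply Finset.sum_induction _ P hPadd hP0
  intro i _
  apply Finset.sum_induction _ P hPadd hP0
  intro j _
  rw [hU]
  by_cases hij : i < j
  · rw [if_pos hij]; exact hPelem i j _ (ne_of_lt hij)
  · rw [if_neg hij, Matrix.single_zero, Matrix.single_zero, add_zero]; exact hP0

end Cfsg.Agent.Lib.Helper98.H74
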