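import Mathlib
import Cfsg.Agent.Lib.Helper4.TPDefs

/-! TP-RTABS (project TP = S4033, helper4): a normal `t`-subgroup `B` with `|B : C_B(x)| = t` for
an `s`-element `x` (`s ≠ t`) contains an element `c` outside `C(x)` commuting with `x c x⁻¹`.
(In fact `c := b⁻¹ x b x⁻¹` is central in `B`; the hypothesis on `|B : B ∩ Z(G)|` is not used.) -/

set_option autoImplicit false

namespace Cfsg.Agent.Lib.Helper4.TP

universe u

theorem rtabs_helper53_memCen {G : Type u} [Group G] (g y : G) :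
    g ∈ Cen y ↔ y * g = g * y := by
  unfold Cen
  rw [Subgroup.mem_centralizer_iff]
  constructor
  · intro h; exact h y rfl
  · intro h z hz; rw [Set.mem_singleton_iff] at hz; rw [hz]; exact h

theorem rtabs_helper53_comm {G : Type u} [Group G] (b u x w : G) (h1 : x * u = u * x)
    (hw : b * u = w * b) (h2 : x * w = w * x) :
    (b⁻¹ * (x * b * x⁻¹)) * u = u * (b⁻¹ * (x * b * x⁻¹)) := by
  have h3 : x⁻¹ * u = u * x⁻¹ := (Commute.inv_left (show Commute x u from h1)).eq
  have h5 : b⁻¹ * w = u * b⁻¹ := by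
    rw [inv_mul_eq_iff_eq_mul, ← mul_assoc, hw, mul_inv_cancel_right]
  calc b⁻¹ * (x * b * x⁻¹) * u = b⁻¹ * (x * (b * (x⁻¹ * u))) := by simp only [mul_assoc]
    _ = b⁻¹ * (x * (b * (u * x⁻¹))) := by rw [h3]
    _ = b⁻¹ * (x * ((b * u) * x⁻¹)) := by simp only [mul_assoc]
    _ = b⁻¹ * (x * ((w * b) * x⁻¹)) := by rw [hw]
    _ = b⁻¹ * ((x * w) * (b * x⁻¹)) := by simp only [mul_assoc]
    _ = b⁻¹ * ((w * x) * (b * x⁻¹)) := by rw [h2]
    _ = (b⁻¹ * w) * (x * b * x⁻¹) := by simp only [mul_assoc]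
    _ = (u * b⁻¹) * (x * b * x⁻¹) := by rw [h5]
    _ = u * (b⁻¹ * (x * b * x⁻¹)) := by simp only [mul_assoc]

theorem rtabs_helper53_pow {G : Type u} [Group G] (b c x : G) (hxb : x * b = b * c * x)
    (hxc : x * c = c * x) (n : ℕ) : x ^ n * b = b * c ^ n * x ^ n := by
  induction n with
  | zero => simp
  | succ n ih =>
    have hc : x * c ^ n = c ^ n * x := (Commute.pow_right (show Commute x c from hxc) n).eq
    calc x ^ (n + 1) * b = x * (x ^ n * b) := by rw [pow_succ', mul_assoc]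
      _ = x * (b * c ^ n * x ^ n) := by rw [ih]
      _ = (x * b) * (c ^ n * x ^ n) := by simp only [mul_assoc]
      _ = (b * c * x) * (c ^ n * x ^ n) := by rw [hxb]
      _ = b * c * ((x * c ^ n) * x ^ n) := by simp only [mul_assoc]
      _ = b * c * ((c ^ n * x) * x ^ n) := by rw [hc]
      _ = b * c ^ (n + 1) * x ^ (n + 1) := by
        rw [pow_succ' c, pow_succ' x]; simp only [mul_assoc]

theorem rtabs : RTAbsStmt.{u} := by
  intro G _ _ t s ht hs hst B x hBn hB hx hZ hC
  haveI : Fact t.Prime := ⟨ht⟩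
  -- an element of B outside Cen x
  have hnot : ¬ B ≤ Cen x := by
    intro hle
    have h1 : (Cen x).relIndex B = 1 := Subgroup.relIndex_eq_one.mpr hle
    rw [hC] at h1
    exact ht.one_lt.ne' h1
  obtain ⟨b, hbB, hbC⟩ := SetLike.not_le_iff_exists.mp hnot
  -- normality of B ⊓ Cen x in B
  obtain ⟨k, hk⟩ := IsPGroup.iff_card.mp hB
  have hidx : ((Cen x).subgroupOf B).index = t := hC
  have hk0 : k ≠ 0 := by
    rintro rfl
    have hd : ((Cen x).subgroupOf B).index ∣ Nat.card ↥B := Subgroup.index_dvd_card _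
    rw [hidx, hk, pow_zero] at hd
    exact ht.one_lt.ne' (Nat.dvd_one.mp hd)
  haveI hN : ((Cen x).subgroupOf B).Normal :=
    Subgroup.normal_of_index_eq_minFac_card (by rw [hidx, hk, ht.pow_minFac hk0])
  have hconj : ∀ a ∈ B, ∀ u ∈ B, x * u = u * x → x * (a * u * a⁻¹) = (a * u * a⁻¹) * x := by
    intro a ha u hu hxu
    have hmem : (⟨u, hu⟩ : ↥B) ∈ (Cen x).subgroupOf B := by
      rw [Subgroup.mem_subgroupOf]; exact (rtabs_helper53_memCen u x).mpr hxu
    have h2 := hN.conj_mem _ hmem ⟨a, ha⟩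
    rw [Subgroup.mem_subgroupOf] at h2
    exact (rtabs_helper53_memCen _ x).mp h2
  -- the element c
  obtain ⟨c, hcdef⟩ : ∃ c : G, c = b⁻¹ * (x * b * x⁻¹) := ⟨_, rfl⟩
  have hcB : c ∈ B := by
    rw [hcdef]
    exact B.mul_mem (B.inv_mem hbB) (hBn.conj_mem b hbB x)
  have hxb : x * b = b * c * x := by rw [hcdef]; group
  -- c ∉ Cen x
  have hcC : c ∉ Cen x := by
    intro hc
    have hxc : x * c = c * x := (rtabs_helper53_memCen c x).mp hc
    have hp := rtabs_helper53_pow b c x hxb hxc (orderOf x)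
    rw [pow_orderOf_eq_one, one_mul, mul_one] at hp
    have hc1 : c ^ orderOf x = 1 := by
      have h := congrArg (fun y => b⁻¹ * y) hp
      simp only [inv_mul_cancel, inv_mul_cancel_left] at h
      exact h.symm
    obtain ⟨j, hj⟩ := hB ⟨c, hcB⟩
    have hc2 : c ^ t ^ j = 1 := by
      have h := congrArg Subtype.val hj
      simpa using h
    obtain ⟨i, hi⟩ := hx
    have hcop : Nat.Coprime (orderOf x) (t ^ j) := by
      rw [hi]
      exact Nat.Coprime.pow _ _ ((Nat.coprime_primes hs ht).mpr hst)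
    have hone : c = 1 := by
      have hd1 : orderOf c ∣ orderOf x := orderOf_dvd_of_pow_eq_one hc1
      have hd2 : orderOf c ∣ t ^ j := orderOf_dvd_of_pow_eq_one hc2
      have h3 : orderOf c ∣ 1 := by
        have h := Nat.dvd_gcd hd1 hd2
        rwa [Nat.Coprime.gcd_eq_one hcop] at h
      exact orderOf_eq_one_iff.mp (Nat.dvd_one.mp h3)
    apply hbC
    rw [rtabs_helper53_memCen, hxb, hone, mul_one]
  -- c commutes with B ⊓ Cen x
  have hcomm : ∀ u ∈ B, x * u = u * x → c * u = u * c := by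
    intro u hu hxu
    rw [hcdef]
    exact rtabs_helper53_comm b u x (b * u * b⁻¹) hxu (by group) (hconj b hbB u hu hxu)
  -- index argument
  have hle1 : B ⊓ Cen x ≤ B ⊓ Cen c := by
    intro u hu
    rw [Subgroup.mem_inf] at hu ⊢
    exact ⟨hu.1, (rtabs_helper53_memCen u c).mpr
      (hcomm u hu.1 ((rtabs_helper53_memCen u x).mp hu.2))⟩
  have hmul := Subgroup.relIndex_mul_relIndex (B ⊓ Cen x) (B ⊓ Cen c) B hle1 inf_le_left
  have he1 : (B ⊓ Cen x).relIndex B = t := by
    rw [Subgroup.inf_relIndex_left]; exact hC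
  rw [he1] at hmul
  have hBc : B ≤ Cen c := by
    rcases (Nat.dvd_prime ht).mp ⟨_, hmul.symm⟩ with h1 | h1
    · exfalso
      have h := Subgroup.relIndex_eq_one.mp h1
      have h' : c ∈ B ⊓ Cen x :=
        h (Subgroup.mem_inf.mpr ⟨hcB, (rtabs_helper53_memCen c c).mpr rfl⟩)
      exact hcC (Subgroup.mem_inf.mp h').2
    · rw [h1] at hmul
      have h2 : (B ⊓ Cen c).relIndex B = 1 := by
        have h : t * (B ⊓ Cen c).relIndex B = t * 1 := by rw [hmul, mul_one]
        exact Nat.eq_of_mul_eq_mul_left ht.pos h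
      exact (Subgroup.relIndex_eq_one.mp h2).trans inf_le_right
  refine ⟨c, hcB, hcC, ?_⟩
  have h := hBc (hBn.conj_mem c hcB x)
  rw [rtabs_helper53_memCen] at h
  exact h.symm

end Cfsg.Agent.Lib.Helper4.TP
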